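import Cfsg.Agent.H743.HT.Lam
import Cfsg.Agent.S0913
import Cfsg.Agent.H670.Hg.Cls
import Cfsg.Agent.Blocks.BlockIdem
import Cfsg.Agent.H316.HT.Defs

/-!
# S4933, THEOREM M (helper743)

`G` finite, `P` Sylow `3`, `A ≤ P` abelian of index `3`, `z ∈ A` of order `3`, in the commutator subgroup of `P`, central in `P`, a cube in
`A`; the elements of order `3` of `Z(P)` are powers of `z`; `D` a set of elements of order `3`, stable under conjugation and
inversion, with `z ∈ D`, `D ∩ C(z)` stable (outside `⟨z⟩`) under multiplication by `z`, `1 + |D ∩ C(z)| = 3 j` with `3 ∤ j`.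
Then the principal `3`-block contains a character of degree divisible by `3` exactly once.

* `moment`     : the general form;
* `moment_two` : `D` = the conjugates of `z`, `z⁻¹`, `D ∩ C(z) = {z, z⁻¹}`.
-/

set_option autoImplicit false
set_option linter.unusedSectionVars false

open Subgroup Cfsg
open Cfsg.Agent.Blocks.LocalRing
open scoped ComplexConjugate

namespace Cfsg.Agent.H743.HT

universe u

variable {G : Type u} [Group G]

/-- **THEOREM M** -/
theorem moment [Finite G] {M : Ideal AlgInt} (hM : IsPModular 3 M) {P : Sylow 3 G} {A : Subgroup G} {z : G} {D : Finset G}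
    (h : Hyp (P : Subgroup G) A z) (hD : HypD D z) (hC : HypC P D z) {j : ℕ} (hj : 1 + (Dz D z).card = 3 * j)
    (hj3 : ¬ 3 ∣ j) :
    ∃ χ : IrrCharacter G, χ ∈ principalBlock M G ∧ H316.HT.vd 3 (χ : G → ℂ) = 1 := by
  classical
  have : Fact (Nat.Prime 3) := ⟨Nat.prime_three⟩
  have := Fintype.ofFinite G
  have hMp := isPrime hM
  by_contra hcon
  push Not at hcon
  have := Characters.Core.finite_irr (G := G)
  have := Fintype.ofFinite (IrrCharacter G)
  have hBlk : IsPBlock M (principalBlock M G) :=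
    ⟨⟨fun _ => 1, Blocks.Basic.isIrrCharacter_one⟩, rfl⟩
  -- the coefficients
  set c : G → ℂ := blockCoeff (principalBlock M G) with hcdef
  have hc : ∀ x g, c (x * g * x⁻¹) = c g := fun x g =>
    (Blocks.Basic.blockCoeff_isConj _ (isConj_iff.2 ⟨x, rfl⟩)).symm
  have hcR : ∀ g, MemLocalRing M (c g) := fun g => S0913.result 3 M hM _ hBlk g
  have hc0 : ∀ g, 3 ∣ orderOf g → c g = 0 := fun g hg => H670.Hg.blockCoeff_singular hM hBlk hg
  have hs : ∑ g, c g = 1 := by
    have h1 := Blocks.BlockIdem.lin_blockCoeff (principalBlock M G)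
      (⟨fun _ => 1, Blocks.Basic.isIrrCharacter_one⟩ : IrrCharacter G)
    have h2 : (⟨fun _ => 1, Blocks.Basic.isIrrCharacter_one⟩ : IrrCharacter G) ∈ principalBlock M G :=
      Blocks.Basic.sameBlock_refl _
    rw [if_pos h2, Blocks.ConvCentral.lin_def] at h1
    simpa using h1
  let B : Finset (IrrCharacter G) := Finset.univ.filter (· ∈ principalBlock M G)
  have hBm : ∀ χ ∈ B, χ ∈ principalBlock M G := fun χ hχ => (Finset.mem_filter.1 hχ).2
  have hcf : ∀ g, c g = (Nat.card G : ℂ)⁻¹ * ∑ χ ∈ B, (χ : G → ℂ) 1 * (χ : G → ℂ) g⁻¹ := by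
    intro g
    rw [hcdef, Blocks.Basic.blockCoeff_def, finsum_mem_eq_toFinset_sum]
    congr 1
    have h1 : (principalBlock M G).toFinset = B := by
      ext χ
      rw [Set.mem_toFinset, Finset.mem_filter]
      simp
    rw [h1]
    refine Finset.sum_congr rfl fun χ _ => ?_
    rw [← Characters.Core.isCharacter_apply_inv (Characters.Core.isIrr_isCharacter χ.2)]
  -- the centralizer
  have hcomm : ∃ x ∈ (P : Subgroup G), ∃ y ∈ (P : Subgroup G), x * y ≠ y * x := by
    by_contra hab
    push Not at hab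
    have h1 : _root_.commutator (P : Subgroup G) = ⊥ := by
      rw [commutator_eq_bot_iff_center_eq_top, eq_top_iff]
      intro x _
      rw [mem_center_iff]
      intro y
      exact Subtype.ext (hab y y.2 x x.2)
    have h2 := hC.com
    rw [h1, mem_bot] at h2
    exact h.z1 (congrArg Subtype.val h2)
  have hnd := h.not_dvd hcomm
  have hzC : z ∈ centralizer (A : Set G) := by
    rw [mem_centralizer_iff]
    intro b hb
    exact h.ab b hb z h.zA
  obtain ⟨lam, hl1, hlM, hlz⟩ := exists_lam hM h.pA h.ab h.zA h.z1 h.z3 hzC hnd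
  have hleft := left hM h hD (fun x _ => hC.cj x) hc hcR hc0 hs lam hl1 hlM hzC hlz hj hj3
  -- the index
  obtain ⟨k, hk, hk3⟩ : ∃ k, (centralizer (A : Set G)).index = 3 * k ∧ ¬ 3 ∣ k := by
    have hAC : A ≤ centralizer (A : Set G) := by
      intro a ha
      rw [mem_centralizer_iff]
      intro b hb
      exact h.ab b hb a ha
    have e1 := relIndex_mul_index hAC
    have e2 := relIndex_mul_index h.le
    rw [h.idx] at e2
    have h3 : 3 ∣ A.relIndex (centralizer (A : Set G)) * (centralizer (A : Set G)).index := by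
      rw [e1, ← e2]
      exact dvd_mul_right 3 _
    obtain ⟨k, hk⟩ := ((Nat.prime_three.dvd_mul).1 h3).resolve_left hnd
    refine ⟨k, hk, fun hk3 => ?_⟩
    apply P.not_dvd_index
    have h4 : 3 * (P : Subgroup G).index = 3 * (A.relIndex (centralizer (A : Set G)) * k) := by
      rw [e2, ← e1, hk]
      ring
    rw [Nat.eq_of_mul_eq_mul_left (by norm_num) h4]
    exact dvd_mul_of_dvd_right hk3 _
  exact hleft (right hM h hD hC B hBm (fun χ hχ => hcon χ (hBm χ hχ)) hcf _ lam hk hk3)

/-- **THEOREM M, the centre strongly closed** -/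
theorem moment_two [Finite G] {M : Ideal AlgInt} (hM : IsPModular 3 M) (S : Sylow 3 G) (A : Subgroup G) (z : G)
    (h1 : A ≤ (S : Subgroup G)) (h2 : ∀ a ∈ A, ∀ b ∈ A, a * b = b * a) (h3 : Nat.card (S : Subgroup G) = 3 * Nat.card A)
    (h4 : 27 ≤ Nat.card A) (h5 : z ∈ A) (h6 : z ≠ 1) (h7 : z ^ 3 = 1) (h8 : ∃ a ∈ A, a ^ 3 = z)
    (h9 : z ∈ ⁅(S : Subgroup G), (S : Subgroup G)⁆)
    (h10 : (S : Subgroup G) ⊓ centralizer ((S : Subgroup G) : Set G) = zpowers z)
    (h11 : ∀ g, Commute (g * z * g⁻¹) z → g * z * g⁻¹ = z ∨ g * z * g⁻¹ = z⁻¹) :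
    ∃ χ : IrrCharacter G, χ ∈ principalBlock M G ∧ H316.HT.vd 3 (χ : G → ℂ) = 1 := by
  classical
  have : Fact (Nat.Prime 3) := ⟨Nat.prime_three⟩
  have := Fintype.ofFinite G
  have hA0 : 0 < Nat.card A := Nat.card_pos
  have hidx : A.relIndex (S : Subgroup G) = 3 := by
    have e := card_inf_mul A (S : Subgroup G)
    rw [inf_eq_left.2 h1, h3, mul_comm] at e
    exact Nat.eq_of_mul_eq_mul_right hA0 e
  have hnA : (A.subgroupOf (S : Subgroup G)).Normal := by
    have hp : IsPGroup 3 (S : Subgroup G) := S.2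
    have hi : (A.subgroupOf (S : Subgroup G)).index = 3 := hidx
    refine Subgroup.normal_of_index_eq_minFac_card ?_
    rw [hi]
    obtain ⟨n, hn⟩ := IsPGroup.iff_card.1 hp
    have hn0 : n ≠ 0 := by
      rintro rfl
      rw [pow_zero] at hn
      omega
    rw [hn, Nat.Prime.pow_minFac Nat.prime_three hn0]
  have hzS : z ∈ (S : Subgroup G) := h1 h5
  have hzc : ∀ x ∈ (S : Subgroup G), x * z = z * x := by
    intro x hx
    have h12 : z ∈ (S : Subgroup G) ⊓ centralizer ((S : Subgroup G) : Set G) := by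
      rw [h10]; exact mem_zpowers z
    exact (mem_centralizer_iff.1 h12.2) x hx
  have hH : Hyp (S : Subgroup G) A z :=
    { pg := S.2
      le := h1
      idx := hidx
      nor := fun x hx a ha => by
        have := hnA.conj_mem ⟨a, h1 ha⟩ (mem_subgroupOf.2 ha) ⟨x, hx⟩
        exact mem_subgroupOf.1 this
      ab := h2
      zA := h5
      z1 := h6
      z3 := h7
      zc := hzc
      cube := h8
      cen := by
        intro x hx _ hxc
        rw [← h10]
        exact ⟨hx, mem_centralizer_iff.2 fun y hy => hxc y hy⟩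
      card := by
        obtain ⟨n, hn⟩ := IsPGroup.iff_card.1 (S.2.to_le h1)
        rw [hn] at h4 ⊢
        exact pow_dvd_of_le (k := 3) h4 }
  let D : Finset G := Finset.univ.filter fun d => ∃ g, d = g * z * g⁻¹ ∨ d = g * z⁻¹ * g⁻¹
  have hDm : ∀ d, d ∈ D ↔ ∃ g, d = g * z * g⁻¹ ∨ d = g * z⁻¹ * g⁻¹ := fun d => by
    simp [D]
  have hzz : z⁻¹ ^ 3 = 1 := by rw [inv_pow, h7, inv_one]
  have hDz : ∀ d ∈ D, z * d = d * z → d = z ∨ d = z⁻¹ := by
    intro d hd hc
    obtain ⟨g, rfl | rfl⟩ := (hDm d).1 hd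
    · exact h11 g hc.symm
    · have h12 : Commute (g * z * g⁻¹) z := by
        have h13 : Commute (g * z⁻¹ * g⁻¹) z := hc.symm
        have h14 := h13.inv_left
        rwa [show (g * z⁻¹ * g⁻¹)⁻¹ = g * z * g⁻¹ by group] at h14
      have h15 : g * z⁻¹ * g⁻¹ = (g * z * g⁻¹)⁻¹ := by group
      rw [h15]
      rcases h11 g h12 with h16 | h16
      · right; rw [h16]
      · left; rw [h16, inv_inv]
  have hHD : HypD D z :=
    { z1 := h6
      z3 := h7
      one := by
        rw [hDm]
        rintro ⟨g, hg | hg⟩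
        · exact h6 (conj_eq_one_iff.1 hg.symm)
        · exact h6 (inv_eq_one.1 (conj_eq_one_iff.1 hg.symm))
      zm := (hDm z).2 ⟨1, Or.inl (by group)⟩
      zi := (hDm _).2 ⟨1, Or.inr (by group)⟩
      mul := by
        intro d hd hc h12 h13
        rcases hDz d hd hc with h14 | h14
        · exact absurd h14 h12
        · exact absurd h14 h13 }
  have hHC : HypC S D z :=
    { cj := by
        intro x d hd
        obtain ⟨g, hg | hg⟩ := (hDm d).1 hd
        · exact (hDm _).2 ⟨x * g, Or.inl (by rw [hg]; group)⟩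
        · exact (hDm _).2 ⟨x * g, Or.inr (by rw [hg]; group)⟩
      inv := by
        intro d hd
        obtain ⟨g, hg | hg⟩ := (hDm d).1 hd
        · exact (hDm _).2 ⟨g, Or.inr (by rw [hg]; group)⟩
        · exact (hDm _).2 ⟨g, Or.inl (by rw [hg]; group)⟩
      three := by
        intro d hd
        obtain ⟨g, hg | hg⟩ := (hDm d).1 hd
        · rw [hg, conj_pow, h7, mul_one, mul_inv_cancel]
        · rw [hg, conj_pow, hzz, mul_one, mul_inv_cancel]
      mem := hzS
      com := by
        have h12 : z ∈ (_root_.commutator (S : Subgroup G)).map (S : Subgroup G).subtype := by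
          rw [map_subtype_commutator]
          exact h9
        obtain ⟨y, hy, hyz⟩ := mem_map.1 h12
        have h13 : y = ⟨z, hzS⟩ := Subtype.ext hyz
        rw [← h13]
        exact hy }
  have hcard : 1 + (Dz D z).card = 3 * 1 := by
    have h12 : Dz D z = {z, z⁻¹} := by
      ext d
      rw [mem_Dz, Finset.mem_insert, Finset.mem_singleton]
      constructor
      · rintro ⟨h13, h14⟩
        exact hDz d h13 h14
      · rintro (rfl | rfl)
        · exact ⟨hHD.zm, rfl⟩
        · exact ⟨hHD.zi, by group⟩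
    rw [h12, Finset.card_pair hHD.ne]
  exact moment hM hH hHD hHC hcard (by norm_num)

end Cfsg.Agent.H743.HT
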