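import Cfsg.Agent.H743.HT.Right
import Cfsg.Agent.H61.PQ.Cd2

/-!
# S4933, theorem M: the linear character of the centralizer (helper743)
-/

set_option autoImplicit false
set_option linter.unusedSectionVars false

open Subgroup Cfsg
open Cfsg.Agent.Blocks.LocalRing

namespace Cfsg.Agent.H743.HT

universe u

variable {G : Type u} [Group G]

/-- a subgroup normalized by a Sylow subgroup -/
theorem not_dvd_relIndex_of_norm [Finite G] (P : Sylow 3 G) {C : Subgroup G} (hn : (P : Subgroup G) ≤ normalizer (C : Set G)) :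
    ¬ 3 ∣ (P : Subgroup G).relIndex C := by
  have : Fact (Nat.Prime 3) := ⟨Nat.prime_three⟩
  have hsup : C.relIndex ((P : Subgroup G) ⊔ C) = C.relIndex (P : Subgroup G) := by
    have hN : (C.subgroupOf ((P : Subgroup G) ⊔ C)).Normal := by
      rw [normal_subgroupOf_iff_le_normalizer le_sup_right]
      exact sup_le hn le_normalizer
    have h2 := relIndex_sup_right ((P : Subgroup G).subgroupOf ((P : Subgroup G) ⊔ C)) (C.subgroupOf ((P : Subgroup G) ⊔ C))
    rw [← subgroupOf_sup le_sup_left le_sup_right, subgroupOf_self, relIndex_top_right] at h2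
    have h1 : C.relIndex ((P : Subgroup G) ⊔ C) = (C.subgroupOf ((P : Subgroup G) ⊔ C)).index := rfl
    rw [h1, h2, relIndex_subgroupOf le_sup_left]
  have e1 := card_inf_mul C ((P : Subgroup G) ⊔ C)
  have e2 := card_inf_mul (P : Subgroup G) ((P : Subgroup G) ⊔ C)
  have e3 := card_inf_mul C (P : Subgroup G)
  have e4 := card_inf_mul (P : Subgroup G) C
  rw [inf_eq_left.2 le_sup_right, hsup] at e1
  rw [inf_eq_left.2 le_sup_left] at e2
  rw [inf_comm] at e4
  have hP0 : 0 < Nat.card (P : Subgroup G) := Nat.card_pos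
  have h5 : (P : Subgroup G).relIndex C = (P : Subgroup G).relIndex ((P : Subgroup G) ⊔ C) := by
    apply Nat.eq_of_mul_eq_mul_left hP0
    rw [e2, ← e1, ← e4, ← e3]
    ring
  rw [h5]
  intro h6
  exact P.not_dvd_index (h6.trans (relIndex_dvd_index_of_le le_sup_left))

/-- `P` is generated by `A` and one more element -/
theorem Hyp.gen {P A : Subgroup G} {z : G} [Finite G] (h : Hyp P A z) {b : G} (hbP : b ∈ P) (hbA : b ∉ A) {x : G} (hx : x ∈ P) :
    ∃ a ∈ A, ∃ k : ℕ, x = a * b ^ k := by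
  have h3 : Fact (Nat.Prime 3) := ⟨Nat.prime_three⟩
  have hAn : (A.subgroupOf P).Normal := ⟨fun n hn g => by
    rw [mem_subgroupOf] at hn ⊢
    exact h.nor g g.2 n hn⟩
  have hcard : Nat.card (P ⧸ A.subgroupOf P) = 3 := h.idx
  have hb1 : ((⟨b, hbP⟩ : P) : P ⧸ A.subgroupOf P) ≠ 1 := by
    rw [Ne, QuotientGroup.eq_one_iff, mem_subgroupOf]
    exact hbA
  have hgen := zpowers_eq_top_of_prime_card hcard hb1
  have hmem : ((⟨x, hx⟩ : P) : P ⧸ A.subgroupOf P) ∈ zpowers ((⟨b, hbP⟩ : P) : P ⧸ A.subgroupOf P) := by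
    rw [hgen]; exact mem_top _
  obtain ⟨k, hk⟩ := mem_powers_iff_mem_zpowers.2 hmem
  simp only at hk
  rw [← QuotientGroup.mk_pow, eq_comm, ← div_eq_one, ← QuotientGroup.mk_div, QuotientGroup.eq_one_iff,
    mem_subgroupOf] at hk
  refine ⟨_, hk, k, ?_⟩
  rw [Subgroup.coe_div, Subgroup.coe_pow, div_mul_cancel]

/-- `A` is a Sylow subgroup of its centralizer -/
theorem Hyp.not_dvd [Finite G] {P : Sylow 3 G} {A : Subgroup G} {z : G} (h : Hyp (P : Subgroup G) A z)
    (hcom : ∃ x ∈ (P : Subgroup G), ∃ y ∈ (P : Subgroup G), x * y ≠ y * x) :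
    ¬ 3 ∣ A.relIndex (centralizer (A : Set G)) := by
  have hnorm : (P : Subgroup G) ≤ normalizer ((centralizer (A : Set G) : Subgroup G) : Set G) := by
    have hh : ∀ x ∈ (P : Subgroup G), ∀ y ∈ centralizer (A : Set G), x * y * x⁻¹ ∈ centralizer (A : Set G) := by
      intro x hx y hy
      rw [mem_centralizer_iff] at hy ⊢
      intro a ha
      have h1 := h.nor x⁻¹ ((P : Subgroup G).inv_mem hx) a ha
      rw [inv_inv] at h1
      have h2 := hy _ h1
      calc a * (x * y * x⁻¹) = x * ((x⁻¹ * a * x) * y) * x⁻¹ := by group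
        _ = x * (y * (x⁻¹ * a * x)) * x⁻¹ := by rw [h2]
        _ = _ := by group
    intro x hx
    rw [mem_normalizer_iff]
    intro y
    refine ⟨hh x hx y, fun h1 => ?_⟩
    have := hh x⁻¹ ((P : Subgroup G).inv_mem hx) _ h1
    rwa [show x⁻¹ * (x * y * x⁻¹) * x⁻¹⁻¹ = y by group] at this
  have h1 := not_dvd_relIndex_of_norm P hnorm
  have hAC : A ≤ centralizer (A : Set G) := by
    intro a ha
    rw [mem_centralizer_iff]
    intro b hb
    exact h.ab b hb a ha
  have h2 : (P : Subgroup G) ⊓ centralizer (A : Set G) = A := by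
    refine le_antisymm ?_ (le_inf h.le hAC)
    intro b hb
    by_contra hbA
    obtain ⟨hbP, hbC⟩ := mem_inf.1 hb
    obtain ⟨x, hx, y, hy, hxy⟩ := hcom
    apply hxy
    obtain ⟨a, ha, k, rfl⟩ := h.gen hbP hbA hx
    obtain ⟨a', ha', k', rfl⟩ := h.gen hbP hbA hy
    have c1 : Commute a a' := h.ab a ha a' ha'
    have c2 : Commute a (b ^ k') := (show Commute a b from (mem_centralizer_iff.1 hbC) a ha).pow_right k'
    have c3 : Commute (b ^ k) a' := ((show Commute a' b from (mem_centralizer_iff.1 hbC) a' ha').pow_right k).symm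
    have c4 : Commute (b ^ k) (b ^ k') := (Commute.refl b).pow_pow k k'
    exact ((c1.mul_right c2).mul_left (c3.mul_right c4)).eq
  rw [← inf_relIndex_right, h2] at h1
  exact h1

variable {M : Ideal AlgInt}

open scoped IsMulCommutative in
/-- **the linear character** -/
theorem exists_lam [Finite G] (hM : IsPModular 3 M) {A : Subgroup G} (hA : IsPGroup 3 A) (hab : ∀ a ∈ A, ∀ b ∈ A, a * b = b * a)
    {z : G} (hzA : z ∈ A) (hz1 : z ≠ 1) (hz3 : z ^ 3 = 1) (hz : z ∈ centralizer (A : Set G))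
    (hi : ¬ 3 ∣ A.relIndex (centralizer (A : Set G))) :
    ∃ lam : centralizer (A : Set G) →* ℂˣ, (∀ x : centralizer (A : Set G), ¬ 3 ∣ orderOf (x : G) → lam x = 1) ∧
      (∀ x, MemLocalIdeal M (((lam x : ℂˣ) : ℂ) - 1)) ∧ lam ⟨z, hz⟩ ≠ 1 := by
  classical
  have : Fact (Nat.Prime 3) := ⟨Nat.prime_three⟩
  set C := centralizer (A : Set G) with hC
  set A' : Subgroup C := A.subgroupOf C with hA'
  have hcomm : IsMulCommutative A' := ⟨⟨fun a b => by
    apply Subtype.ext
    apply Subtype.ext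
    exact hab _ (mem_subgroupOf.1 a.2) _ (mem_subgroupOf.1 b.2)⟩⟩
  have hcen : ∀ a ∈ A', ∀ x : C, x * a = a * x := by
    intro a ha x
    apply Subtype.ext
    exact ((mem_centralizer_iff.1 x.2) _ (mem_subgroupOf.1 ha)).symm
  have hA'p : IsPGroup 3 A' := by
    intro a
    obtain ⟨k, hk⟩ := hA ⟨((a : C) : G), mem_subgroupOf.1 a.2⟩
    refine ⟨k, ?_⟩
    apply Subtype.ext
    apply Subtype.ext
    exact congrArg (fun t : A => (t : G)) hk
  let z' : A' := ⟨⟨z, hz⟩, mem_subgroupOf.2 hzA⟩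
  have hz'1 : z' ≠ 1 := by
    intro h1
    apply hz1
    exact congrArg (fun t : A' => ((t : C) : G)) h1
  obtain ⟨φ, hφ⟩ : ∃ φ : A' →* ℂˣ, φ z' ≠ 1 :=
    CommGroup.exists_apply_ne_one_of_hasEnoughRootsOfUnity A' ℂ hz'1
  have key : ∀ (x : C) (k : ℕ) (g₀ : C), g₀⁻¹ * x ^ k * g₀ ∈ A' → g₀⁻¹ * x ^ k * g₀ = x ^ k := by
    intro x k g₀ h1
    have h2 := hcen _ h1 g₀
    have h3 : g₀ * (g₀⁻¹ * x ^ k * g₀) = x ^ k * g₀ := by group
    rw [h3] at h2
    exact (mul_right_cancel h2).symm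
  have hval : ∀ x : C, MonoidHom.transfer φ x = φ ⟨x ^ A'.index, MonoidHom.transfer_eq_pow_aux x (key x)⟩ :=
    fun x => MonoidHom.transfer_eq_pow φ x (key x)
  have hidx : ¬ 3 ∣ A'.index := hi
  refine ⟨MonoidHom.transfer φ, ?_, ?_, ?_⟩
  · intro x hx
    rw [hval]
    have h1 : x ^ A'.index = 1 := by
      have hmem := MonoidHom.transfer_eq_pow_aux x (key x)
      obtain ⟨k, hk⟩ := IsPGroup.iff_orderOf.1 hA'p ⟨_, hmem⟩
      rw [← orderOf_eq_one_iff]
      have h2 : orderOf (x ^ A'.index) = 3 ^ k := by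
        rw [← hk]
        exact Subgroup.orderOf_coe (⟨x ^ A'.index, hmem⟩ : A')
      rcases Nat.eq_zero_or_pos k with h0 | h0
      · rw [h2, h0, pow_zero]
      · exfalso
        apply hx
        rw [Subgroup.orderOf_coe]
        refine dvd_trans ?_ (orderOf_pow_dvd (x := x) A'.index)
        rw [h2]
        exact dvd_pow_self 3 h0.ne'
    have h2 : (⟨x ^ A'.index, MonoidHom.transfer_eq_pow_aux x (key x)⟩ : A') = 1 := Subtype.ext h1
    rw [h2, map_one]
  · intro x
    rw [hval]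
    obtain ⟨k, hk⟩ := hA'p ⟨x ^ A'.index, MonoidHom.transfer_eq_pow_aux x (key x)⟩
    refine H61.PQ.sub_one_mem_of_pow hM (m := k) ?_
    rw [← Units.val_pow_eq_pow_val, ← map_pow, hk, map_one, Units.val_one]
  · rw [hval]
    have h1 : (⟨(⟨z, hz⟩ : C) ^ A'.index, MonoidHom.transfer_eq_pow_aux _ (key _)⟩ : A') = z' ^ A'.index := rfl
    rw [h1, map_pow]
    intro h2
    apply hφ
    have h3 : φ z' ^ 3 = 1 := by
      rw [← map_pow]
      have h4 : z' ^ 3 = 1 := by
        apply Subtype.ext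
        apply Subtype.ext
        exact hz3
      rw [h4, map_one]
    have h5 : orderOf (φ z') ∣ Nat.gcd 3 A'.index := Nat.dvd_gcd (orderOf_dvd_of_pow_eq_one h3) (orderOf_dvd_of_pow_eq_one h2)
    have h6 : Nat.gcd 3 A'.index = 1 := (Nat.Prime.coprime_iff_not_dvd Nat.prime_three).2 hidx
    rw [h6, Nat.dvd_one] at h5
    exact orderOf_eq_one_iff.1 h5

end Cfsg.Agent.H743.HT
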