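import Cfsg.Agent.H743.HT.Val

/-!
# S4933, theorem M: the values of the class sum (helper743)

* `sum_mul`  : `∑ d ∈ D, χ (d y) = w χ(y)`;
* `exists_w` : `w` is an integer;
* `dvd_val`  : for `χ` in the principal block with `v(χ(1)) ≠ 1`: `81 ∣ χ(1) (w - |D|)²`.
-/

set_option autoImplicit false
set_option linter.unusedSectionVars false

open Subgroup Cfsg
open Cfsg.Agent.Blocks.LocalRing

namespace Cfsg.Agent.H743.HT

universe u

variable {G : Type u} [Group G]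

open Classical in
/-- the indicator function of `D` -/
noncomputable def ind (D : Finset G) (g : G) : ℤ := if g ∈ D then 1 else 0

theorem ind_class {D : Finset G} (hD : ∀ x : G, ∀ d ∈ D, x * d * x⁻¹ ∈ D) (g h : G) :
    ind D (h * g * h⁻¹) = ind D g := by
  have h1 : h * g * h⁻¹ ∈ D ↔ g ∈ D := by
    refine ⟨fun h1 => ?_, hD h g⟩
    have := hD h⁻¹ _ h1
    rwa [show h⁻¹ * (h * g * h⁻¹) * h⁻¹⁻¹ = g by group] at this
  unfold ind
  by_cases hg : g ∈ D
  · rw [if_pos hg, if_pos (h1.2 hg)]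
  · rw [if_neg hg, if_neg fun h2 => hg (h1.1 h2)]

theorem sum_ind [Fintype G] (D : Finset G) (f : G → ℂ) : ∑ g, (ind D g : ℂ) * f g = ∑ d ∈ D, f d := by
  classical
  have h1 : ∀ g, (ind D g : ℂ) * f g = if g ∈ D then f g else 0 := by
    intro g
    unfold ind
    by_cases hg : g ∈ D
    · rw [if_pos hg, if_pos hg]; push_cast; ring
    · rw [if_neg hg, if_neg hg]; push_cast; ring
  simp only [h1]
  rw [Finset.sum_ite_mem, Finset.univ_inter]

/-- the class sum acts as a scalar -/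
theorem sum_mul [Fintype G] {D : Finset G} (hD : ∀ x : G, ∀ d ∈ D, x * d * x⁻¹ ∈ D) {χ : G → ℂ}
    (hχ : IsIrrCharacter G χ) (y : G) : ∑ d ∈ D, χ (d * y) = (∑ d ∈ D, χ d) / χ 1 * χ y := by
  classical
  obtain ⟨n, ρ, hρ, rfl⟩ := hχ
  have h1 := Blocks.ClassScalar.sum_smul_eq ρ hρ (fun g => (ind D g : ℂ))
    (fun g h => by simp only [ind_class hD g h])
  rw [sum_ind] at h1
  have h2 : ∑ d ∈ D, ρ.character (d * y) =
      LinearMap.trace ℂ (Fin n → ℂ) ((∑ x : G, (ind D x : ℂ) • ρ x : Module.End ℂ (Fin n → ℂ)) * ρ y) := by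
    rw [Finset.sum_mul, map_sum, ← sum_ind]
    refine Finset.sum_congr rfl fun x _ => ?_
    rw [smul_mul_assoc, map_smul, smul_eq_mul, ← map_mul]
    rfl
  rw [h2, h1, smul_mul_assoc, one_mul, map_smul, smul_eq_mul]
  rfl

/-- the eigenvalue is an integer -/
theorem exists_w [Fintype G] {D : Finset G} (hD : ∀ x : G, ∀ d ∈ D, x * d * x⁻¹ ∈ D) (hinv : ∀ d ∈ D, d⁻¹ ∈ D)
    (h3 : ∀ d ∈ D, d ^ 3 = 1) {χ : G → ℂ} (hχ : IsIrrCharacter G χ) : ∃ w : ℤ, (∑ d ∈ D, χ d) / χ 1 = w := by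
  classical
  obtain ⟨n, hn, h1⟩ := Characters.Core.isIrr_apply_one hχ
  have hint : IsIntegral ℤ ((∑ d ∈ D, χ d) / χ 1) := by
    have h2 := Blocks.ConvCentral.isIntegral_lin_div hχ (f := ind D) (fun g h => by simp only [ind_class hD g h])
    rw [Blocks.ConvCentral.lin_def, sum_ind] at h2
    exact h2
  have hex : ∀ d : G, ∃ k : ℤ, d ^ 3 = 1 → χ d + χ d⁻¹ - 2 * χ 1 = 3 * k := by
    intro d
    by_cases hd : d ^ 3 = 1
    · obtain ⟨k, hk⟩ := t_val (Characters.Core.isIrr_isCharacter hχ) hd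
      exact ⟨k, fun _ => hk⟩
    · exact ⟨0, fun h => absurd h hd⟩
  choose k hk using hex
  have hs : ∑ d ∈ D, χ d⁻¹ = ∑ d ∈ D, χ d := by
    refine Finset.sum_bij' (fun d _ => d⁻¹) (fun d _ => d⁻¹) hinv hinv ?_ ?_ ?_
    · intro d _; exact inv_inv d
    · intro d _; exact inv_inv d
    · intro d _; rfl
  have h4 : ∑ d ∈ D, (χ d + χ d⁻¹) = ((∑ d ∈ D, (3 * k d + 2 * n) : ℤ) : ℂ) := by
    push_cast
    refine Finset.sum_congr rfl fun d hd => ?_
    have h5 := hk d (h3 d hd)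
    rw [h1] at h5
    linear_combination h5
  rw [Finset.sum_add_distrib, hs] at h4
  refine H691.M23.exists_int_of (a := ∑ d ∈ D, (3 * k d + 2 * n)) (b := 2 * n) (by omega) ?_ hint
  rw [← h4, h1]
  have hn0 : (n : ℂ) ≠ 0 := by exact_mod_cast hn.ne'
  push_cast
  field_simp
  ring

variable {M : Ideal AlgInt} {P : Sylow 3 G} {A : Subgroup G} {D : Finset G} {z : G}

/-- **the divisibility** -/
theorem dvd_val [Fintype G] (hM : IsPModular 3 M) (h : Hyp (P : Subgroup G) A z) (hD : HypD D z) (hC : HypC P D z)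
    (χ : IrrCharacter G) (hχ : χ ∈ principalBlock M G) (hv : (charDegree (χ : G → ℂ)).factorization 3 ≠ 1) :
    ∃ (w r : ℤ), (∑ d ∈ D, (χ : G → ℂ) d) / (χ : G → ℂ) 1 = w ∧
      (charDegree (χ : G → ℂ) : ℤ) * (w - D.card) ^ 2 = 81 * r := by
  classical
  have hMp : M.IsPrime := isPrime hM
  obtain ⟨w, hw⟩ := exists_w hC.cj hC.inv hC.three χ.2
  have hn := Blocks.Basic.irr_one_eq_charDegree χ.2
  have hpos := Blocks.Basic.charDegree_pos χ.2
  set n := charDegree (χ : G → ℂ) with hndef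
  have hn0 : (n : ℂ) ≠ 0 := by exact_mod_cast hpos.ne'
  -- modulo three
  have h3 : (3 : ℤ) ∣ w - D.card := by
    have h1 := Blocks.ClassSum.memLocalIdeal_of_sameBlock (M := M) (χ := fun _ : G => (1 : ℂ)) (ψ := (χ : G → ℂ))
      (fun _ _ => rfl) (Blocks.Basic.irr_isClassFunction χ.2) hχ (f := fun g => (ind D g : ℂ))
      (fun g h => by simp only [ind_class hC.cj g h]) (fun g => memLocalRing_intCast hM _)
    rw [sum_ind, sum_ind] at h1
    have h2 : ∑ d ∈ D, (χ : G → ℂ) d / (χ : G → ℂ) 1 = w := by rw [← Finset.sum_div, hw]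
    rw [h2] at h1
    have h4 : ∑ _d ∈ D, ((1 : ℂ) / 1) - (w : ℂ) = ((D.card - w : ℤ) : ℂ) := by
      rw [Finset.sum_const]; push_cast; simp
    rw [h4, memLocalIdeal_intCast_iff hM] at h1
    have h5 := (dvd_neg.2 h1)
    rwa [neg_sub] at h5
  have hs : ∑ d ∈ D, (χ : G → ℂ) d⁻¹ = ∑ d ∈ D, (χ : G → ℂ) d := by
    refine Finset.sum_bij' (fun d _ => d⁻¹) (fun d _ => d⁻¹) hC.inv hC.inv ?_ ?_ ?_
    · intro d _; exact inv_inv d
    · intro d _; exact inv_inv d
    · intro d _; rfl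
  obtain ⟨k, hk⟩ := sum_t h hD hC (Characters.Core.isIrr_isCharacter χ.2)
  have h9 : 2 * (n : ℤ) * (w - D.card) = 9 * k := by
    rw [Finset.sum_sub_distrib, Finset.sum_add_distrib, hs, Finset.sum_const, nsmul_eq_mul, hn] at hk
    have h1 : ∑ d ∈ D, (χ : G → ℂ) d = w * n := by
      rw [← hw, hn, div_mul_cancel₀ _ hn0]
    rw [h1] at hk
    have h2 : ((2 * (n : ℤ) * (w - D.card) : ℤ) : ℂ) = ((9 * k : ℤ) : ℂ) := by
      push_cast
      linear_combination hk
    exact_mod_cast h2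
  refine ⟨w, ?_⟩
  obtain ⟨a, ha⟩ := h3
  by_cases hn3 : 3 ∣ n
  · have hn9 : 9 ∣ n := by
      have h1 : 2 ≤ n.factorization 3 := by
        have h2 : 1 ≤ n.factorization 3 := (Nat.prime_three.dvd_iff_one_le_factorization hpos.ne').1 hn3
        omega
      have h2 := (Nat.prime_three.pow_dvd_iff_le_factorization hpos.ne').2 h1
      simpa using h2
    obtain ⟨b, hb⟩ := hn9
    refine ⟨b * a ^ 2, hw, ?_⟩
    rw [ha, hb]
    push_cast
    ring
  · have hcop : IsCoprime (9 : ℤ) (2 * (n : ℤ)) := by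
      rw [Int.isCoprime_iff_gcd_eq_one]
      have h1 : Nat.Coprime 9 (2 * n) := by
        rw [show 9 = 3 ^ 2 by norm_num]
        refine Nat.Coprime.pow_left 2 ?_
        rw [Nat.coprime_mul_iff_right]
        exact ⟨by norm_num, (Nat.Prime.coprime_iff_not_dvd Nat.prime_three).2 hn3⟩
      exact_mod_cast h1
    have h1 : (9 : ℤ) ∣ w - D.card := hcop.dvd_of_dvd_mul_left ⟨k, h9⟩
    obtain ⟨b, hb⟩ := h1
    refine ⟨n * b ^ 2, hw, ?_⟩
    rw [hb]
    ring

end Cfsg.Agent.H743.HT
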